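import Groth.Agent.PlaneForms.Basic
import Mathlib.FieldTheory.IsAlgClosed.Basic

/-!
Trisecant lines of a rational quintic in `P³`, as binary cubic forms.
-/

open MvPolynomial Module

namespace Groth.Agent.QuinticTri

universe u

variable {K : Type u} [Field K]

theorem finrank_forms (d : ℕ) :
    FiniteDimensional K (homogeneousSubmodule (Fin 2) K d) ∧
      finrank K (homogeneousSubmodule (Fin 2) K d) = d + 1 := by
  obtain ⟨h1, h2⟩ := PlaneForms.finite_homogeneous_and_finrank (k := K) (σ := Fin 2) d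
  refine ⟨h1, h2.trans ?_⟩
  simp [Nat.choose_succ_self_right, show 2 + d - 1 = d + 1 by omega]

theorem cubic_eq {g : MvPolynomial (Fin 2) K} (hg : g ∈ homogeneousSubmodule (Fin 2) K 3) :
    ∃ c : Fin 4 → K, g = ∑ i, C (c i) * (X 0 ^ (i : ℕ) * X 1 ^ (3 - (i : ℕ))) := by
  have h : g ∈ Submodule.span K
      (Set.range fun i : Fin 4 => (X 0 : MvPolynomial (Fin 2) K) ^ (i : ℕ) * X 1 ^ (3 - (i : ℕ))) := by
    rw [g.as_sum]
    refine Submodule.sum_mem _ fun d hd => ?_
    have hd' : d 0 + d 1 = 3 := by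
      have h1 := hg (mem_support_iff.1 hd)
      rw [show (1 : Fin 2 → ℕ) = fun _ => 1 from rfl, Finsupp.weight_apply, Finsupp.sum_fintype _ _ (by simp)] at h1
      simpa using h1
    have : monomial d (coeff d g) =
        coeff d g • ((X 0 : MvPolynomial (Fin 2) K) ^ d 0 * X 1 ^ (3 - d 0)) := by
      rw [monomial_eq, Finsupp.prod_fintype _ _ (by simp), Fin.prod_univ_two, smul_eq_C_mul,
        show 3 - d 0 = d 1 by omega]
    rw [this]
    exact Submodule.smul_mem _ _ (Submodule.subset_span ⟨⟨d 0, by omega⟩, rfl⟩)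
  obtain ⟨c, hc⟩ := Submodule.mem_span_range_iff_exists_fun K |>.1 h
  exact ⟨c, by simp only [← hc, smul_eq_C_mul]⟩

variable [IsAlgClosed K]

theorem exists_quadratic_factor {g : MvPolynomial (Fin 2) K}
    (hg : g ∈ homogeneousSubmodule (Fin 2) K 3) (hg0 : g ≠ 0) :
    ∃ e ∈ homogeneousSubmodule (Fin 2) K 2, ∃ l ∈ homogeneousSubmodule (Fin 2) K 1,
      e ≠ 0 ∧ g = l * e := by
  obtain ⟨c, hc⟩ := cubic_eq hg
  simp only [Fin.sum_univ_four, Fin.val_zero, Fin.val_one, Fin.val_two,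
    show ((3 : Fin 4) : ℕ) = 3 from rfl] at hc
  norm_num at hc
  have hq : ∀ a b b' : K, C a * X 0 ^ 2 + C b * (X 0 * X 1) + C b' * X 1 ^ 2 ∈
      homogeneousSubmodule (Fin 2) K 2 := fun a b b' =>
    add_mem (add_mem ((isHomogeneous_X_pow _ _).C_mul _)
      (((isHomogeneous_X _ _).mul (isHomogeneous_X _ _)).C_mul _)) ((isHomogeneous_X_pow _ _).C_mul _)
  by_cases h3 : c 3 = 0
  · have he : g = X 1 * (C (c 2) * X 0 ^ 2 + C (c 1) * (X 0 * X 1) + C (c 0) * X 1 ^ 2) := by
      rw [hc, h3, map_zero]; ring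
    exact ⟨_, hq _ _ _, X 1, isHomogeneous_X _ _, fun h => hg0 (by rw [he, h, mul_zero]), he⟩
  · obtain ⟨r, hr⟩ := IsAlgClosed.exists_root
      (Polynomial.C (c 3) * Polynomial.X ^ 3 + Polynomial.C (c 2) * Polynomial.X ^ 2 +
        Polynomial.C (c 1) * Polynomial.X + Polynomial.C (c 0))
      (by rw [Polynomial.degree_cubic h3]; decide)
    simp only [Polynomial.IsRoot, Polynomial.eval_add, Polynomial.eval_mul, Polynomial.eval_C,
      Polynomial.eval_pow, Polynomial.eval_X] at hr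
    have hr' : C (σ := Fin 2) (c 3) * C r ^ 3 + C (c 2) * C r ^ 2 + C (c 1) * C r + C (c 0) = 0 := by
      simpa using congrArg (C (σ := Fin 2)) hr
    have he : g = (X 0 - C r * X 1) * (C (c 3) * X 0 ^ 2 + C (c 2 + r * c 3) * (X 0 * X 1) +
        C (c 1 + r * c 2 + r ^ 2 * c 3) * X 1 ^ 2) := by
      rw [hc]
      simp only [map_add, map_mul, map_pow]
      linear_combination (X 1) ^ 3 * hr'
    exact ⟨_, hq _ _ _, _, sub_mem (isHomogeneous_X _ _) ((isHomogeneous_X _ _).C_mul _),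
      fun h => hg0 (by rw [he, h, mul_zero]), he⟩

theorem exists_trisecant (V : Submodule K (MvPolynomial (Fin 2) K))
    (hV : V ≤ homogeneousSubmodule (Fin 2) K 5) (hdim : finrank K ↥V = 4)
    (hsep : ∀ e ∈ homogeneousSubmodule (Fin 2) K 2, e ≠ 0 →
      ∀ F ∈ homogeneousSubmodule (Fin 2) K 5, ∃ v ∈ V,
        ∃ h ∈ homogeneousSubmodule (Fin 2) K 3, F = v + e * h)
    (F : Finset (MvPolynomial (Fin 2) K)) :
    ∃ g ∈ homogeneousSubmodule (Fin 2) K 3, g ≠ 0 ∧
      2 ≤ finrank K ↥(V ⊓ (homogeneousSubmodule (Fin 2) K 2).map (LinearMap.mulLeft K g)) ∧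
      ∀ g' ∈ F, ∀ c : K, g ≠ c • g' := by
  classical
  obtain ⟨f2, d2⟩ := finrank_forms (K := K) 2
  obtain ⟨f3, d3⟩ := finrank_forms (K := K) 3
  obtain ⟨f5, d5⟩ := finrank_forms (K := K) 5
  haveI : FiniteDimensional K V := Module.finite_of_finrank_eq_succ hdim
  -- two functionals cutting out `V`
  have hQ : finrank K (↥(homogeneousSubmodule (Fin 2) K 5) ⧸ V.submoduleOf (homogeneousSubmodule (Fin 2) K 5)) =
      finrank K (Fin 2 → K) := by
    have h := (V.submoduleOf (homogeneousSubmodule (Fin 2) K 5)).finrank_quotient_add_finrank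
    rw [(Submodule.submoduleOfEquivOfLe hV).finrank_eq, hdim, d5] at h
    rw [Module.finrank_fin_fun]
    omega
  let π := (LinearEquiv.ofFinrankEq _ _ hQ).toLinearMap ∘ₗ (V.submoduleOf _).mkQ
  have hπ : ∀ x, π x = 0 ↔ (x : MvPolynomial (Fin 2) K) ∈ V := fun x => by
    show (LinearEquiv.ofFinrankEq _ _ hQ) (Submodule.Quotient.mk x) = 0 ↔ _
    rw [LinearEquiv.map_eq_zero_iff, Submodule.Quotient.mk_eq_zero]
    rfl
  have hmul : ∀ g ∈ homogeneousSubmodule (Fin 2) K 3, ∀ q ∈ homogeneousSubmodule (Fin 2) K 2,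
      g * q ∈ homogeneousSubmodule (Fin 2) K 5 := fun g hg q hq => IsHomogeneous.mul hg hq
  let ev : K → ((Fin 2 → K) →ₗ[K] K) := fun t => LinearMap.proj 0 + t • LinearMap.proj 1
  let μ : homogeneousSubmodule (Fin 2) K 3 →ₗ[K] homogeneousSubmodule (Fin 2) K 2 →ₗ[K]
      (Fin 2 → K) :=
    LinearMap.mk₂ K (fun g q => π ⟨g.1 * q.1, hmul g g.2 q q.2⟩)
      (fun g g' q => by rw [← map_add]; congr 1; ext1; simp [add_mul])
      (fun c g q => by rw [← map_smul]; congr 1; ext1; simp)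
      (fun g q q' => by rw [← map_add]; congr 1; ext1; simp [mul_add])
      (fun c g q => by rw [← map_smul]; congr 1; ext1; simp)
  have hex : ∀ t, ∃ g : homogeneousSubmodule (Fin 2) K 3, g ≠ 0 ∧ ∀ q, ev t (μ g q) = 0 := by
    intro t
    let T : homogeneousSubmodule (Fin 2) K 3 →ₗ[K] homogeneousSubmodule (Fin 2) K 2 →ₗ[K] K :=
      (LinearMap.llcomp K _ _ _ (ev t)) ∘ₗ μ
    have hT : T.ker ≠ ⊥ := LinearMap.ker_ne_bot_of_finrank_lt (by
      rw [d3, Module.finrank_linearMap, d2, Module.finrank_self]; norm_num)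
    obtain ⟨g, hg, hg0⟩ := Submodule.exists_mem_ne_zero_of_ne_bot hT
    exact ⟨g, hg0, fun q => LinearMap.congr_fun (LinearMap.mem_ker.1 hg) q⟩
  choose g hg0 hgq using hex
  have htwo : ∀ t, 2 ≤ finrank K
      ↥(V ⊓ (homogeneousSubmodule (Fin 2) K 2).map (LinearMap.mulLeft K (g t : MvPolynomial (Fin 2) K))) := by
    intro t
    have h1 : (μ (g t)).range ≤ (ev t).ker := by
      rintro _ ⟨q, rfl⟩; exact hgq t q
    have h2 : finrank K (ev t).ker + 1 ≤ 2 := by
      have h := (ev t).finrank_range_add_finrank_ker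
      have hr : 1 ≤ finrank K (ev t).range := by
        rw [Nat.one_le_iff_ne_zero, Ne, Submodule.finrank_eq_zero]
        intro hb
        have := LinearMap.congr_fun (LinearMap.range_eq_bot.1 hb) (Pi.single 0 1)
        simp [ev] at this
      rw [Module.finrank_fin_fun] at h
      omega
    have h3 := (μ (g t)).finrank_range_add_finrank_ker
    rw [d2] at h3
    have h4 := Submodule.finrank_mono h1
    let ι' : homogeneousSubmodule (Fin 2) K 2 →ₗ[K] MvPolynomial (Fin 2) K :=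
      LinearMap.mulLeft K (g t : MvPolynomial (Fin 2) K) ∘ₗ Submodule.subtype _
    have hinj : Function.Injective ι' := fun a b h =>
      Subtype.ext (mul_left_cancel₀ (fun h0 => hg0 t (Subtype.ext h0)) h)
    have h5 := ((μ (g t)).ker.equivMapOfInjective ι' hinj).finrank_eq
    have h6 : (μ (g t)).ker.map ι' ≤
        V ⊓ (homogeneousSubmodule (Fin 2) K 2).map (LinearMap.mulLeft K (g t : MvPolynomial (Fin 2) K)) := by
      rintro _ ⟨q, hq, rfl⟩
      exact ⟨(hπ _).1 hq, ⟨q.1, q.2, rfl⟩⟩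
    have h7 := Submodule.finrank_mono h6
    omega
  by_contra hcon
  push Not at hcon
  have hF : ∀ t, ∃ g' ∈ F, ∃ c : K, (g t : MvPolynomial (Fin 2) K) = c • g' := fun t =>
    hcon _ (g t).2 (fun h0 => hg0 t (Subtype.ext h0)) (htwo t)
  choose G hG c hc using hF
  obtain ⟨t, t', hne, heq⟩ : ∃ t t' : K, t ≠ t' ∧ G t = G t' := by
    obtain ⟨t, t', hne, heq⟩ := Finite.exists_ne_map_eq_of_infinite (fun t => (⟨G t, hG t⟩ : F))
    exact ⟨t, t', hne, congrArg Subtype.val heq⟩
  have hc0 : ∀ t, c t ≠ 0 := fun t h => hg0 t (Subtype.ext (by rw [hc t, h, zero_smul]; rfl))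
  -- the common cubic lies in `V` after multiplication by every quadratic
  have hgt' : (c t / c t') • g t' = g t := Subtype.ext (by
    rw [Submodule.coe_smul, hc t', hc t, heq, smul_smul, div_mul_cancel₀ _ (hc0 t')])
  have hkill : ∀ q, μ (g t) q = 0 := by
    intro q
    have e1 := hgq t q
    have e2 : ev t' (μ (g t) q) = 0 := by
      rw [← hgt', map_smul, LinearMap.smul_apply, map_smul, hgq, smul_zero]
    simp only [ev, LinearMap.add_apply, LinearMap.smul_apply, LinearMap.proj_apply, smul_eq_mul] at e1 e2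
    have h1 : μ (g t) q 1 = 0 := by
      have : (t - t') * μ (g t) q 1 = 0 := by linear_combination e1 - e2
      exact (mul_eq_zero.1 this).resolve_left (sub_ne_zero.2 hne)
    rw [h1, mul_zero, add_zero] at e1
    funext i
    fin_cases i
    exacts [e1, h1]
  obtain ⟨e, he, l, hl, he0, hge⟩ := exists_quadratic_factor (g t).2 (fun h0 => hg0 t (Subtype.ext h0))
  set E := (homogeneousSubmodule (Fin 2) K 3).map (LinearMap.mulLeft K e) with hE
  set W := (homogeneousSubmodule (Fin 2) K 2).map (LinearMap.mulLeft K (g t : MvPolynomial (Fin 2) K)) with hW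
  have hWle : W ≤ V ⊓ E := by
    rintro _ ⟨q, hq, rfl⟩
    refine ⟨(hπ ⟨_, hmul _ (g t).2 q hq⟩).1 (hkill ⟨q, hq⟩), l * q, IsHomogeneous.mul hl hq, ?_⟩
    simp only [LinearMap.mulLeft_apply, hge]; ring
  have hWdim : finrank K W = 3 := by
    rw [hW, ← (Submodule.equivMapOfInjective _ (fun a b h =>
      mul_left_cancel₀ (fun h0 => hg0 t (Subtype.ext h0)) h) _).finrank_eq, d2]
  have hEdim : finrank K E = 4 := by
    rw [hE, ← (Submodule.equivMapOfInjective _ (fun a b h => mul_left_cancel₀ he0 h) _).finrank_eq, d3]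
  have hsup : homogeneousSubmodule (Fin 2) K 5 ≤ V ⊔ E := fun x hx => by
    obtain ⟨v, hv, h, hh, rfl⟩ := hsep e he he0 x hx
    exact add_mem (Submodule.mem_sup_left hv) (Submodule.mem_sup_right ⟨h, hh, rfl⟩)
  have h8 := Submodule.finrank_mono hWle
  have h9 := Submodule.finrank_mono hsup
  have h10 := Submodule.finrank_sup_add_finrank_inf_eq V E
  omega

end Groth.Agent.QuinticTri
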